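import Groth.Agent.Lib.GoodBlow8.RelAmple
import Groth.Agent.Lib.ChowQP8.Main
import Groth.Agent.Lib.BlowAdm8.Basic
import Groth.Agent.Lib.HodgeIndex.IdealMul
import Groth.Agent.Lib.HodgeIndex.IdealLe
import Groth.Agent.Lib.RelDiv.Sum
import Groth.Agent.Lib.Kodaira.Cones
import Groth.Agent.Lib.AffLocus9.Basic
import Groth.Agent.Lib.AffCompl12.Embed
import Groth.Agent.Lib.Chow.Projective
import Groth.Agent.Lib.Ample.Product
import Groth.Agent.S2331
import Groth.Agent.S4381
import Mathlib.Topology.Irreducible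

/-!
# Affine opens as complements of ample divisors on blow-ups
-/

set_option autoImplicit false
set_option backward.isDefEq.respectTransparency false
universe u

open CategoryTheory CategoryTheory.Limits AlgebraicGeometry TopologicalSpace Opposite
open GrothLib.InvExt (mres fres IsGen)
open GrothLib.IdealModSec GrothLib.Cube

namespace GrothLib.GoodBlow8

variable {X S P : Scheme.{u}}

/-- A common blow-up of `X` dominating a proper target. -/
theorem exists_roof [CompactSpace S] [QuasiSeparatedSpace S]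
    (f : X ⟶ S) [IsSeparated f] [QuasiCompact f] [LocallyOfFiniteType f]
    (U : X.Opens) (hU : IsCompact (U : Set X)) (hUd : Dense (U : Set X))
    (g : P ⟶ S) [IsProper g] (r : (U : Scheme.{u}) ⟶ P) [IsOpenImmersion r] (hrg : r ≫ g = U.ι ≫ f) :
    ∃ (I : X.IdealSheafData) (X₁ : Scheme.{u}) (b : X₁ ⟶ X) (h : X₁ ⟶ P), BlowUp.IsBlowUp b I ∧
      BlowUp.IsAdmissibleFor U I ∧ h ≫ g = b ≫ f ∧ h ⁻¹ᵁ r.opensRange = b ⁻¹ᵁ U ∧
      IsIso (h ∣_ r.opensRange) := by
  have : CompactSpace X := QuasiCompact.compactSpace_of_compactSpace f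
  have : QuasiSeparatedSpace X := quasiSeparatedSpace_of_quasiSeparated f
  let π : pullback ((⊤ : X.Opens).ι ≫ f) g ⟶ _ := pullback.fst _ _
  let s : (U : Scheme.{u}) ⟶ pullback ((⊤ : X.Opens).ι ≫ f) g :=
    pullback.lift (X.homOfLE le_top) r (by rw [Scheme.homOfLE_ι_assoc, hrg])
  have : IsProper π := MorphismProperty.pullback_fst _ _ inferInstance
  have hs : s ≫ π = X.homOfLE le_top := pullback.lift_fst _ _ _
  obtain ⟨I₁, X₁, b, hb, hI₁, s', hs', hag⟩ :=
    Nagata6.extend_section U ⊤ le_top hU CompactSpace.isCompact_univ π s hs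
  have hιtop : IsIso (b ⁻¹ᵁ (⊤ : X.Opens)).ι := inferInstanceAs (IsIso X₁.topIso.hom)
  let h : X₁ ⟶ P := inv (b ⁻¹ᵁ (⊤ : X.Opens)).ι ≫ s' ≫ pullback.snd _ _
  have hh : h ≫ g = b ≫ f := by
    have hc := pullback.condition (f := (⊤ : X.Opens).ι ≫ f) (g := g)
    simp only [h, Category.assoc, ← hc]
    rw [← Category.assoc s', hs', morphismRestrict_ι_assoc, IsIso.inv_hom_id_assoc]
  have hhU : (b ⁻¹ᵁ U).ι ≫ h = (b ∣_ U) ≫ r := by
    have he : (b ⁻¹ᵁ U).ι = X₁.homOfLE (show b ⁻¹ᵁ U ≤ b ⁻¹ᵁ ⊤ from fun _ _ => trivial) ≫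
        (b ⁻¹ᵁ (⊤ : X.Opens)).ι := (Scheme.homOfLE_ι X₁ _).symm
    rw [he, Category.assoc]
    simp only [h, IsIso.hom_inv_id_assoc]
    rw [reassoc_of% hag, pullback.lift_snd]
  let O : P.Opens := r.opensRange
  have hbU : IsIso (b ∣_ U) := ChowQP8.isIso_restrict_of_admissible hb U hI₁.2
  have hd : Dense ((b ⁻¹ᵁ U : X₁.Opens) : Set X₁) := ChowQP8.dense_preimage hb U hUd
  have hpre : h ⁻¹ᵁ O = b ⁻¹ᵁ U := by
    refine le_antisymm (fun x hx => ?_) (fun x hx => ?_)
    · let φ : (O : Scheme.{u}) ⟶ X := r.isoOpensRange.inv ≫ U.ι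
      have hφ : O.ι ≫ g = φ ≫ f := by
        rw [Category.assoc, ← hrg, Scheme.Hom.isoOpensRange_inv_comp_assoc]
      let Γ := pullback.lift O.ι φ hφ
      let m : X₁ ⟶ pullback g f := pullback.lift h b hh
      have hm : (b ⁻¹ᵁ U).ι ≫ m = (b ∣_ U) ≫ r.isoOpensRange.hom ≫ Γ := by
        refine pullback.hom_ext ?_ ?_
        · simp only [m, Γ, O, Category.assoc, pullback.lift_fst, hhU,
            Scheme.Hom.isoOpensRange_hom_ι]
        · simp only [m, Γ, φ, O, Category.assoc, pullback.lift_snd, Iso.hom_inv_id_assoc,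
            morphismRestrict_ι]
      have hcl : m x ∈ closure (Set.range (fun z => Γ z)) := by
        refine map_mem_closure m.continuous (hd x) fun y hy => ⟨(r.isoOpensRange.hom) ((b ∣_ U) ⟨y, hy⟩), ?_⟩
        show Γ _ = m ((b ⁻¹ᵁ U).ι ⟨y, hy⟩)
        rw [← Scheme.Hom.comp_apply, ← Scheme.Hom.comp_apply, ← Scheme.Hom.comp_apply, hm]
      have hfst : m x ∈ (pullback.fst g f) ⁻¹ᵁ O := by
        show pullback.fst g f (m x) ∈ O
        rw [← Scheme.Hom.comp_apply, pullback.lift_fst]; exact hx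
      obtain ⟨z, hz⟩ := Nagata6.closure_graph_inter_subset g f O φ hφ ⟨hcl, hfst⟩
      have := congrArg (fun t => pullback.snd g f t) hz
      simp only [m, φ, ← Scheme.Hom.comp_apply, pullback.lift_snd] at this
      show b x ∈ U
      rw [← this]
      exact (r.isoOpensRange.inv z).2
    · show h ((b ⁻¹ᵁ U).ι ⟨x, hx⟩) ∈ O
      rw [← Scheme.Hom.comp_apply, hhU, Scheme.Hom.comp_apply]
      exact ⟨_, rfl⟩
  refine ⟨I₁, X₁, b, h, hb, hI₁, hh, hpre, ?_⟩
  have e : h ∣_ O ≫ O.ι = X₁.homOfLE hpre.le ≫ (b ∣_ U) ≫ r := by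
    rw [morphismRestrict_ι, ← hhU, Scheme.homOfLE_ι_assoc]
  have : IsOpenImmersion (h ∣_ O ≫ O.ι) := by rw [e]; infer_instance
  have : IsOpenImmersion (h ∣_ O) := IsOpenImmersion.of_comp _ O.ι
  have : Surjective (h ∣_ O) := ⟨fun o => by
    obtain ⟨u, hu⟩ := o.2
    obtain ⟨y, hy⟩ := (b ∣_ U).homeomorph.surjective u
    refine ⟨⟨y.1, hpre.ge y.2⟩, O.ι.isOpenEmbedding.injective ?_⟩
    rw [← Scheme.Hom.comp_apply, morphismRestrict_ι]
    show h ((b ⁻¹ᵁ U).ι y) = o.1
    rw [← Scheme.Hom.comp_apply, hhU, Scheme.Hom.comp_apply, ← hu]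
    exact congrArg (fun t => r t) hy⟩
  exact (isIso_iff_isOpenImmersion_and_surjective _).mpr ⟨inferInstance, inferInstance⟩

/-- The support of a positive power of an ideal. -/
theorem support_pow_succ (H : X.IdealSheafData) : ∀ k : ℕ, ((H ^ (k + 1)).support : Set X) = (H.support : Set X)
  | 0 => by rw [pow_one]
  | k + 1 => by rw [pow_succ, Scheme.IdealSheafData.support_mul, Closeds.coe_sup, support_pow_succ H k, Set.union_self]

theorem cls_congr {I J : X.IdealSheafData} (he : I = J) (hI : PicF.IsInvertible (ClSub.idealMod I))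
    (hJ : PicF.IsInvertible (ClSub.idealMod J)) : clsMod hI = clsMod hJ := by
  subst he
  rfl

/-- The class of the module of a power of an effective Cartier ideal. -/
theorem cls_idealMod_pow {H : X.IdealSheafData} (hH : BlowUp.IsEffCartierIdeal H) : ∀ k : ℕ,
    clsMod (isInvertible_of_isEffCartier (Nagata6.isEffCartierIdeal_pow hH k)) =
      clsMod (isInvertible_of_isEffCartier hH) ^ k
  | 0 => by
    have ht : H ^ 0 = (⊤ : X.IdealSheafData) := by rw [pow_zero]; first | rfl | simp
    rw [cls_congr ht _ (isInvertible_of_isEffCartier GrothLib.BlowUp.isEffCartierIdeal_top),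
      HodgeIndex.cls_idealMod_top]
    exact (pow_zero _).symm
  | k + 1 => by
    have hk := Nagata6.isEffCartierIdeal_pow hH k
    rw [cls_congr (pow_succ H k) _
        (isInvertible_of_isEffCartier (GrothLib.BlowUp.isEffCartierIdeal_mul hk hH)),
      HodgeIndex.cls_idealMod_mul _ (isInvertible_of_isEffCartier hk) (isInvertible_of_isEffCartier hH),
      cls_idealMod_pow hH k]
    exact (pow_succ _ k).symm

/-- The divisor of a section not vanishing off an effective Cartier divisor. -/
theorem exists_divisor_of_section [CompactSpace X] {M : X.Modules} (hM : PicF.IsInvertible M)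
    (σ : Coh.structureModule X ⟶ M) {E : X.IdealSheafData} (hE : BlowUp.IsEffCartierIdeal E)
    (hEf : BlowUp.IsFiniteTypeIdeal E) (hs : (E.support : Set X) = (CohB1.genLocus M σ : Set X)ᶜ) :
    ∃ H : X.IdealSheafData, BlowUp.IsEffCartierIdeal H ∧ (H.support : Set X) = (E.support : Set X) ∧
      ClSub.IsInverseOf M (ClSub.idealMod H) := by
  let s : Γ(M, ⊤) := Mero.Zero.gsecOf σ ⊤
  let H := PicF2.zeroScheme M (OX.ofTop (N := M) s)
  have hcan : SmCurveFam.IsCanSec H M s := EllGroup15.isCanSec_zeroScheme hM s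
  have hsupp : (H.support : Set X) = (E.support : Set X) := by
    rw [hs]
    ext p
    obtain ⟨T, e, r, hpT, he, hr, hI⟩ := hcan p
    have hr' : Mero.Zero.gsecOf σ T.1 = r • e := by rw [← Mero.Zero.gsecOf_mres σ (le_top : T.1 ≤ ⊤)]; exact hr
    have hloc := QCohTwist9.genLocus_inf_eq σ he hr'
    rw [Set.mem_compl_iff, SetLike.mem_coe, SetLike.mem_coe, Scheme.IdealSheafData.mem_support_iff_of_mem (U := T) hpT,
      hI, Scheme.zeroLocus_span, Scheme.zeroLocus_singleton, Set.mem_compl_iff, SetLike.mem_coe, ← hloc]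
    exact ⟨fun h h' => h ⟨h', hpT⟩, fun h h' => h h'.1⟩
  obtain ⟨n, -, hn⟩ := BlowAdm8.exists_pow_le H E hEf hsupp.le
  have hH : BlowUp.IsEffCartierIdeal H := by
    intro p
    obtain ⟨T, e, r, hpT, he, hr, hI⟩ := hcan p
    obtain ⟨D, hpD, hDT, a, ha, hEa⟩ := GrothLib.BlowUp.exists_cartierOn_le hE (W := T.1) (x := p) hpT
    have hID : H.ideal D = Ideal.span {fres X hDT r} := by
      rw [← H.map_ideal (U := D) (V := T) hDT, hI, Ideal.map_span, Set.image_singleton]
      rfl
    refine ⟨D, hpD, fres X hDT r, ?_, hID⟩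
    have h1 : a ^ n ∈ H.ideal D := hn D (by
      rw [Scheme.IdealSheafData.ideal_pow, Pi.pow_apply, hEa]
      exact Ideal.pow_mem_pow (Ideal.mem_span_singleton_self a) n)
    rw [hID] at h1
    obtain ⟨q, hq⟩ := Ideal.mem_span_singleton'.mp h1
    exact (mul_mem_nonZeroDivisors.mp (hq ▸ pow_mem ha n)).2
  exact ⟨H, hH, hsupp, EllGroup15.isInverseOf_of_isCanSec hH hcan⟩

/-- The complement of the support of a divisor with ample inverse is affine. -/
theorem isAffineOpen_compl_support [CompactSpace X] [IsAffine S] (q : X ⟶ S) [UniversallyClosed q]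
    {D : X.IdealSheafData} (hD : BlowUp.IsEffCartierIdeal D) {L : X.Modules}
    (h : ClSub.IsInverseOf L (ClSub.idealMod D)) (hamp : CohB1.IsAmple L) : IsAffineOpen D.support.compl := by
  obtain ⟨s, hs⟩ := SmCurveFam.exists_isCanSec hD hamp.1 h
  let σ := OX.ofTop (N := L) s
  have hloc : CohB1.genLocus L σ = D.support.compl := by
    ext p
    obtain ⟨T, e, r, hpT, he, hr, hI⟩ := hs p
    have hr' : Mero.Zero.gsecOf σ T.1 = r • e := (EllGroup15.secVal_ofTop s T.1).trans hr
    have hl := QCohTwist9.genLocus_inf_eq σ he hr'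
    have h1 : p ∈ CohB1.genLocus L σ ↔ p ∈ X.basicOpen r := by
      rw [← hl]; exact ⟨fun h => ⟨h, hpT⟩, fun h => h.1⟩
    show p ∈ CohB1.genLocus L σ ↔ p ∉ D.support
    rw [h1, Scheme.IdealSheafData.mem_support_iff_of_mem (U := T) hpT,
      hI, Scheme.zeroLocus_span, Scheme.zeroLocus_singleton, Set.mem_compl_iff, not_not, SetLike.mem_coe]
  obtain ⟨c, ⟨e₀⟩⟩ := Ample.exists_cocycle hamp.1
  obtain ⟨a, ha⟩ := c.exists_hom_eq (σ ≫ e₀.hom)
  have hl : c.locus a = D.support.compl := by
    rw [← c.genLocus_hom, ha, Ample.genLocus_comp_iso, hloc]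
  rw [← hl]
  exact AffLocus9.isAffineOpen_locus c q ((c.isAmple_iff e₀).1 hamp).2 a

/-- Goodman's theorem. -/
theorem isAffineOpen_iff (k : Type u) [Field k] (X : Scheme.{u})
    [X.Over (Spec (CommRingCat.of k))] [IsProper (X ↘ (Spec (CommRingCat.of k)))] [IsIntegral X]
    (U : X.Opens) :
    IsAffineOpen U ↔
      ∃ 𝓙 : X.IdealSheafData, (𝓙.support : Set X) ⊆ (U : Set X)ᶜ ∧
        ∃ (X' : Scheme.{u}) (f : X' ⟶ X), BlowUp.IsBlowUp f 𝓙 ∧
          IsProper (f ≫ (X ↘ (Spec (CommRingCat.of k)))) ∧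
          ∃ (D : X'.IdealSheafData) (L : X'.Modules), BlowUp.IsEffCartierIdeal D ∧
            (D.support : Set X') = (fun x => f x) ⁻¹' ((U : Set X)ᶜ) ∧
            ClSub.IsInverseOf L (ClSub.idealMod D) ∧ CohB1.IsAmple L := by
  let πX := X ↘ (Spec (CommRingCat.of k))
  have : CompactSpace X := QuasiCompact.compactSpace_of_compactSpace πX
  have : QuasiSeparatedSpace X := quasiSeparatedSpace_of_quasiSeparated πX
  have : IsLocallyNoetherian X := LocallyOfFiniteType.isLocallyNoetherian πX
  constructor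
  · intro hU
    by_cases hne : (U : Set X).Nonempty
    swap
    · have hU0 : U = ⊥ := Opens.ext (Set.not_nonempty_iff_eq_empty.mp hne)
      obtain ⟨X', f, hf⟩ := GrothLib.BlowUp.exists_isBlowUp X (⊥ : X.IdealSheafData)
      have hfg : BlowUp.IsFiniteTypeIdeal (⊥ : X.IdealSheafData) := fun W => by
        rw [Scheme.IdealSheafData.ideal_bot]; exact Submodule.fg_bot
      have := Nagata6.isProper_of_isBlowUp hfg hf
      have hbot : (((⊥ : X.IdealSheafData).comap f).support : Set X') = Set.univ := by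
        rw [Scheme.IdealSheafData.support_comap, Scheme.IdealSheafData.support_bot]
        rfl
      have : IsEmpty X' := by
        refine isEmpty_iff.mpr fun x => ?_
        obtain ⟨y, hy⟩ := (dense_iff_inter_open.mp (QuasiDom6.dense_compl_support hf.1)) Set.univ isOpen_univ ⟨x, trivial⟩
        exact hy.2 (hbot.ge trivial)
      have hO := isInvertible_of_isEffCartier (GrothLib.BlowUp.isEffCartierIdeal_top (X := X'))
      obtain ⟨T, hT, hTe⟩ := Kodaira.exists_inverse hO
      refine ⟨⊥, by rw [hU0]; simp, X', f, hf, inferInstance, ⊤, T, GrothLib.BlowUp.isEffCartierIdeal_top,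
        Set.ext fun x => isEmptyElim x, hTe, hT, inferInstance, fun x => isEmptyElim x⟩
    have : IsAffine (U : Scheme.{u}) := hU
    obtain ⟨N, g, hg, hgf, hcl⟩ := AffCompl12.exists_immersion_chart (U.ι ≫ πX)
    obtain ⟨L₀, s₀, hL₀, hs₀⟩ := AffCompl12.exists_ample_chart (k := k) N
    have : IsProper (CohB1.ProjSpace.toSpec N k) := Chow.isProper_toSpec N k
    have : QuasiCompact (g ≫ CohB1.ProjSpace.toSpec N k) := by rw [hgf]; infer_instance
    have : QuasiCompact g := QuasiCompact.of_comp g (CohB1.ProjSpace.toSpec N k)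
    let P := g.image
    let r : (U : Scheme.{u}) ⟶ P := g.toImage
    let i : P ⟶ CohB1.ProjSpace N k := g.imageι
    let πP : P ⟶ Spec (CommRingCat.of k) := i ≫ CohB1.ProjSpace.toSpec N k
    have : IsClosedImmersion i := inferInstanceAs (IsClosedImmersion g.imageι)
    have : IsProper πP := inferInstance
    have : IsOpenImmersion r := inferInstanceAs (IsOpenImmersion g.toImage)
    have : IsDominant r := inferInstanceAs (IsDominant g.toImage)
    have hri : r ≫ i = g := Scheme.Hom.toImage_imageι g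
    have hrg : r ≫ πP = U.ι ≫ πX := by rw [← Category.assoc, hri, hgf]
    let O := r.opensRange
    have hOchart : O = i ⁻¹ᵁ AffCompl12.chart0 N := by
      ext z
      constructor
      · rintro ⟨u, rfl⟩
        show i (r u) ∈ AffCompl12.chart0 N
        rw [← Scheme.Hom.comp_apply, hri]
        exact (hcl.ge ⟨u, rfl⟩).2
      · intro hz
        have hzc : i z ∈ closure (Set.range g) := by
          have : Set.range i = closure (Set.range g) := by
            rw [show i = g.ker.subschemeι from rfl, Scheme.IdealSheafData.range_subschemeι, Scheme.Hom.support_ker]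
          exact this.le ⟨z, rfl⟩
        obtain ⟨u, hu⟩ := hcl.le ⟨hzc, hz⟩
        exact ⟨u, i.isClosedEmbedding.injective (by rw [← Scheme.Hom.comp_apply, hri]; exact hu)⟩
    have hUd : Dense (U : Set X) := U.2.dense hne
    obtain ⟨I₁, X₁, b, h, hb, hI₁, hh, hpre, hiso⟩ := exists_roof πX U hU.isCompact hUd πP r hrg
    have := Nagata6.isProper_of_isBlowUp hI₁.1 hb
    have : IsProper (h ≫ πP) := by rw [hh]; infer_instance
    have : IsProper h := IsProper.of_comp h πP
    have : CompactSpace P := QuasiCompact.compactSpace_of_compactSpace πP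
    have : QuasiSeparatedSpace P := quasiSeparatedSpace_of_quasiSeparated πP
    have hOc : IsCompact (O : Set P) := by
      rw [Scheme.Hom.coe_opensRange]
      exact isCompact_range r.continuous
    obtain ⟨J, Y, c, W, d, hc, hJ, hJs, -, -, hdh, hd, -, htop⟩ :=
      Nagata6.exists_modification h O O le_rfl hOc hOc subset_closure le_rfl
    have hWt : W = ⊤ := htop ‹_›
    subst hWt
    have := Nagata6.isIso_ι_top Y
    let gX : Y ⟶ X₁ := inv (⊤ : Y.Opens).ι ≫ d
    have hgX : gX ≫ h = c := by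
      simp only [gX, Category.assoc, hdh, IsIso.inv_hom_id_assoc]
    have hgb : BlowUp.IsBlowUp gX (J.comap h) := Nagata6.isBlowUp_iso_comp _ hd
    obtain ⟨K, hK, hKs, hKb⟩ :=
      Nagata6.exists_isBlowUp_comp hI₁.1 hb (Nagata6.fg_comap' J hJ.1 h) hgb
    have := Nagata6.isProper_of_isBlowUp hK hKb
    have := Nagata6.isProper_of_isBlowUp hJ.1 hc
    have hpre' : c ⁻¹ᵁ O = (gX ≫ b) ⁻¹ᵁ U := by
      rw [← hgX, Scheme.Hom.comp_preimage, hpre, Scheme.Hom.comp_preimage]; rfl
    -- the divisor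
    let E := J.comap c
    have hEs : (E.support : Set Y) = ((c ⁻¹ᵁ O : Y.Opens) : Set Y)ᶜ := by
      rw [Scheme.IdealSheafData.support_comap]
      show c ⁻¹' (J.support : Set P) = _
      rw [hJs]
      rfl
    have hEf : BlowUp.IsFiniteTypeIdeal E := Nagata6.fg_comap' J hJ.1 c
    have : CompactSpace Y := QuasiCompact.compactSpace_of_compactSpace c
    obtain ⟨u₀⟩ := Ample.nonempty_pullback_structureModule (c ≫ i)
    let M := (Scheme.Modules.pullback (c ≫ i)).obj L₀
    have hM : PicF.IsInvertible M := Ample.isInvertible_pullback _ hL₀.1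
    let σ : Coh.structureModule Y ⟶ M := u₀.inv ≫ (Scheme.Modules.pullback (c ≫ i)).map s₀
    have hσ : CohB1.genLocus M σ = c ⁻¹ᵁ O := by
      rw [show CohB1.genLocus M σ = (c ≫ i) ⁻¹ᵁ CohB1.genLocus L₀ s₀ from
        Ample.genLocus_pullback (c ≫ i) L₀ hL₀.1 s₀ u₀.symm, hs₀, hOchart, Scheme.Hom.comp_preimage]
    obtain ⟨H, hH, hHs, hHinv⟩ := exists_divisor_of_section hM σ hc.1 hEf (by rw [hEs, hσ])
    have hHf : BlowUp.IsFiniteTypeIdeal H := RelDiv.fg_ideal_of_isEffCartier hH
    obtain ⟨m, hm0, hm⟩ := BlowAdm8.exists_pow_le E H hHf hHs.ge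
    let A := (Scheme.Modules.pullback i).obj L₀
    have hA : CohB1.IsAmple A := Ample.isAmple_pullback_of_isAffineHom i hL₀
    obtain ⟨n₀, -, hn₀⟩ := Groth.Agent.S2331.result c πP (ClSub.idealMod E) A
      (isRelAmple_exceptional hJ.1 hc) ((Groth.Agent.S4381.result πP A).mpr hA)
    let n := m + (n₀ + 1)
    let L := CohB1.tensorMod (ClSub.idealMod E) ((Scheme.Modules.pullback c).obj (CohB1.tensorPow A n))
    have hL : CohB1.IsAmple L := (Groth.Agent.S4381.result (c ≫ πP) L).mp (hn₀ n (by omega))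
    obtain ⟨D₀, hD₀, hHm⟩ := RelDiv.exists_eq_mul hc.1 (Nagata6.isEffCartierIdeal_pow hH m) hm
    let D := D₀ * H ^ (n₀ + 1)
    have hHn : H ^ n = E * D := by
      rw [pow_add, hHm, mul_assoc]
    have hD : BlowUp.IsEffCartierIdeal D :=
      GrothLib.BlowUp.isEffCartierIdeal_mul hD₀ (Nagata6.isEffCartierIdeal_pow hH _)
    have hDs : (D.support : Set Y) = (E.support : Set Y) := by
      refine Set.Subset.antisymm ?_ ?_
      · refine fun x hx => ?_
        have h1 : x ∈ ((H ^ n).support : Set Y) := by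
          rw [hHn, Scheme.IdealSheafData.support_mul, Closeds.coe_sup]; exact Or.inr hx
        rw [show n = (m + n₀) + 1 by omega, support_pow_succ, hHs] at h1
        exact h1
      · rw [Scheme.IdealSheafData.support_mul, Closeds.coe_sup, support_pow_succ, hHs]
        exact Set.subset_union_right
    have hEi := isInvertible_of_isEffCartier hc.1
    have hDi := isInvertible_of_isEffCartier hD
    have hAn := Ample.isInvertible_tensorPow hA.1 n
    have hLi := Ample.isInvertible_tensorMod hEi (Ample.isInvertible_pullback c hAn)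
    refine ⟨K, ?_, Y, gX ≫ b, hKb, inferInstance, D, L, hD, ?_, ?_, hL⟩
    · rw [hKs]
      rintro x (hx | ⟨y, hy, rfl⟩) hxU
      · exact Set.disjoint_left.mp hI₁.2 hx hxU
      · rw [Scheme.IdealSheafData.support_comap] at hy
        exact Set.disjoint_left.mp hJ.2 hy (hpre.ge hxU)
    · rw [hDs, hEs, hpre']
      rfl
    · refine (clsMod_eq_one_iff (Ample.isInvertible_tensorMod hLi hDi)).1 ?_
      have hMcls : Cube.pull c (clsMod hA.1) = clsMod hM := by
        rw [← Cube.clsMod_pullback c hA.1]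
        exact (clsMod_eq_iff _ _).2 ⟨(Scheme.Modules.pullbackComp c i).app L₀⟩
      have hEDi : PicF.IsInvertible (ClSub.idealMod (E * D)) :=
        isInvertible_of_isEffCartier (GrothLib.BlowUp.isEffCartierIdeal_mul hc.1 hD)
      have hpow : clsMod hEDi = clsMod (isInvertible_of_isEffCartier hH) ^ n := by
        rw [← cls_idealMod_pow hH n]
        have key : ∀ (J' J'' : Y.IdealSheafData) (h' : PicF.IsInvertible (ClSub.idealMod J'))
            (h'' : PicF.IsInvertible (ClSub.idealMod J'')), J' = J'' → clsMod h' = clsMod h'' := by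
          intro J' J'' h' h'' he
          subst he
          rfl
        exact key _ _ _ _ hHn.symm
      rw [clsMod_tensorMod hLi hDi, clsMod_tensorMod hEi (Ample.isInvertible_pullback c hAn),
        Cube.clsMod_pullback c hAn, Cube.clsMod_tensorPow hA.1, map_pow, hMcls,
        clsMod_eq_inv_of_isInverseOf hM (isInvertible_of_isEffCartier hH) hHinv, mul_right_comm,
        ← HodgeIndex.cls_idealMod_mul hEDi hEi hDi, hpow, inv_pow, mul_inv_cancel]
  · rintro ⟨J, hJs, X', f, hf, hprop, D, L, hD, hDs, hinv, hamp⟩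
    have : CompactSpace X' := hamp.2.1
    have haff := isAffineOpen_compl_support (f ≫ πX) hD hinv hamp
    have he : D.support.compl = f ⁻¹ᵁ U := by
      ext x
      show x ∉ (D.support : Set X') ↔ f x ∈ U
      rw [hDs]
      exact not_not
    rw [he] at haff
    have : IsIso (f ∣_ U) := ChowQP8.isIso_restrict_of_admissible hf U (Set.disjoint_left.mpr fun x hx => hJs hx)
    have : IsAffine (f ⁻¹ᵁ U : Scheme.{u}) := haff
    exact IsAffine.of_isIso (inv (f ∣_ U))

end GrothLib.GoodBlow8
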