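import Groth.Agent.Lib.Nagata6.Charts
import Groth.Agent.Lib.Nagata6.Proper
import Groth.Agent.Lib.IdealModSec.Basic
import Groth.Agent.Lib.QCohTwist9.Basic
import Groth.Agent.Lib.EllGroup15.ZeroIdeal
import Groth.Agent.Lib.ParaPair.Basic
import Groth.Agent.Lib.Ample.RelAmple
import Groth.Prelude.Def_LCI2

/-!
# The exceptional ideal of a blow-up is relatively ample
-/

set_option autoImplicit false
set_option backward.isDefEq.respectTransparency false
universe u

open CategoryTheory CategoryTheory.Limits AlgebraicGeometry TopologicalSpace Opposite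
open GrothLib.InvExt (mres fres IsGen)
open GrothLib.IdealModSec

namespace GrothLib.GoodBlow8

variable {X X' : Scheme.{u}}

/-- A function lying in the ideal on an affine cover is the value of a section of the ideal module. -/
theorem exists_val_of_cover (I : X.IdealSheafData) {W : X.Opens} (a : Γ(X, W)) {ι : Type u}
    (T : ι → X.affineOpens) (hT : ∀ i, (T i).1 ≤ W) (hcov : W ≤ ⨆ i, (T i).1)
    (ha : ∀ i, fres X (hT i) a ∈ I.ideal (T i)) : ∃ k, val I W k = a := by
  refine (app_kernel (ClSub.toSubscheme I) W).2 a ?_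
  refine Ample.meq_of_cover (ClSub.quotMod I) (fun i => (T i).1) hT hcov fun i => ?_
  have h : (ClSub.toSubscheme I).app (T i).1 (fres X (hT i) a) = 0 := by
    have h2 := ha i
    rw [← I.ker_subschemeι_app (T i)] at h2
    exact h2
  rw [← Ample.app_mres]
  exact h.trans (map_zero _).symm

/-- The exceptional ideal is ample relative to the blow-up. -/
theorem isRelAmple_exceptional {A : X.IdealSheafData} (hA : BlowUp.IsFiniteTypeIdeal A) {b : X' ⟶ X}
    (hb : BlowUp.IsBlowUp b A) : RelAmple.IsRelAmple b (ClSub.idealMod (A.comap b)) := by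
  haveI := Nagata6.isProper_of_isBlowUp hA hb
  refine ⟨inferInstance, fun U => ?_⟩
  obtain ⟨V, hVU, hgen, -, hcov, hbas⟩ := Nagata6.exists_charts hb U
  let E := A.comap b
  let L := ClSub.idealMod E
  let j := (b ⁻¹ᵁ U.1).ι
  let M := L.restrict j
  have hLinv : PicF.IsInvertible L := isInvertible_of_isEffCartier hb.1
  have hMinv : PicF.IsInvertible M := ParaPair.isInvertible_restrict j hLinv
  have hWc : CompactSpace (b ⁻¹ᵁ U.1 : Scheme.{u}) :=
    isCompact_iff_compactSpace.mp (b.isCompact_preimage U.2.isCompact)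
  have hjle : ∀ O : (b ⁻¹ᵁ U.1 : Scheme.{u}).Opens, j ''ᵁ O ≤ b ⁻¹ᵁ U.1 :=
    fun O => (j.image_le_opensRange O).trans (Scheme.Opens.opensRange_ι _).le
  let a : A.ideal U → Γ(X', j ''ᵁ ⊤) := fun f => b.appLE U.1 (j ''ᵁ ⊤) (hjle ⊤) (f : Γ(X, U.1))
  have hares : ∀ (f : A.ideal U) (T : X'.Opens) (hT : T ≤ j ''ᵁ ⊤),
      fres X' hT (a f) = b.appLE U.1 T (hT.trans (hjle ⊤)) (f : Γ(X, U.1)) := fun f T hT => by
    exact congr($(b.appLE_map (hjle ⊤) (homOfLE hT).op) (f : Γ(X, U.1)))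
  have hVtop : ∀ g, (V g).1 ≤ j ''ᵁ ⊤ := fun g => by
    rw [Scheme.Hom.image_top_eq_opensRange, Scheme.Opens.opensRange_ι]; exact hVU g
  have hmem : ∀ (g : A.ideal U) (f : A.ideal U),
      b.appLE U.1 (V g).1 (hVU g) (f : Γ(X, U.1)) ∈ E.ideal (V g) := fun g f => by
    rw [BlowUp.ideal_comap_eq_map A b U (V g) (hVU g)]
    exact Ideal.mem_map_of_mem _ f.2
  have hk : ∀ f, ∃ k : Γ(L, j ''ᵁ ⊤), val E (j ''ᵁ ⊤) k = a f := fun f => by
    refine exists_val_of_cover E (a f) (fun g => V g) hVtop (fun x hx => ?_) fun g => ?_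
    · obtain ⟨g, hg⟩ := hcov x (hjle ⊤ hx)
      exact Opens.mem_iSup.mpr ⟨g, hg⟩
    · rw [hares]; exact hmem g f
  choose k hk using hk
  let σ : A.ideal U → (Coh.structureModule (b ⁻¹ᵁ U.1 : Scheme.{u}) ⟶ M) :=
    fun f => OX.ofTop (N := M) (show Γ(M, ⊤) from k f)
  have heg : ∀ g, ∃ e : Γ(L, (V g).1), IsGen L (V g).1 e ∧
      val E (V g).1 e = b.appLE U.1 (V g).1 (hVU g) (g : Γ(X, U.1)) := fun g => by
    obtain ⟨hnz, hspan⟩ := hgen g
    obtain ⟨e, he⟩ := exists_val_eq E (V g) (hmem g g)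
    exact ⟨e, isGen_of_cartierOn (he ▸ hnz) (he ▸ hspan), he⟩
  choose e he hev using heg
  have hlocus : ∀ f, CohB1.genLocus M (σ f) = j ⁻¹ᵁ (V f).1 := by
    intro f
    ext y
    obtain ⟨g, hg⟩ := hcov (j y) (hjle ⊤ ⟨y, trivial, rfl⟩)
    obtain ⟨φ, hφ⟩ := Ideal.mem_span_singleton'.mp ((hgen g).2.le (hmem g f))
    let T := j ⁻¹ᵁ (V g).1
    have hTV : j ''ᵁ T ≤ (V g).1 := j.image_preimage_le _
    have hTk : mres L (j.image_mono le_top : j ''ᵁ T ≤ j ''ᵁ ⊤) (k f) =
        fres X' hTV φ • mres L hTV (e g) := by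
      refine val_injective E _ ?_
      rw [val_mres, hk, hares, val_smul, val_mres, hev,
        show b.appLE U.1 (j ''ᵁ T) _ (f : Γ(X, U.1)) =
          fres X' hTV (b.appLE U.1 (V g).1 (hVU g) (f : Γ(X, U.1))) from
          (congr($(b.appLE_map (hVU g) (homOfLE hTV).op) (f : Γ(X, U.1)))).symm, ← hφ]
      exact map_mul _ _ _
    let c : Γ((b ⁻¹ᵁ U.1 : Scheme.{u}), T) := (j.appIso T).hom (fres X' hTV φ)
    have hinv : (j.appIso T).inv c = fres X' hTV φ := by
      show (j.appIso T).inv ((j.appIso T).hom _) = _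
      rw [← CommRingCat.comp_apply, Iso.hom_inv_id]
      rfl
    have hgenT : IsGen M T (show Γ(M, T) from mres L hTV (e g)) :=
      InvExt.isGen_restrict j L ((he g).restrict hTV)
    have hc : Mero.Zero.gsecOf (σ f) T = c • (show Γ(M, T) from mres L hTV (e g)) := by
      refine Eq.trans (EllGroup15.secVal_ofTop (L := M) (show Γ(M, ⊤) from k f) T) ?_
      show mres L (j.image_mono le_top) (k f) = (j.appIso T).inv c • mres L hTV (e g)
      rw [hinv]
      exact hTk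
    have hloc := QCohTwist9.genLocus_inf_eq (σ f) hgenT hc
    have hbo : y ∈ CohB1.genLocus M (σ f) ↔ j y ∈ X'.basicOpen φ := by
      have h1 : y ∈ CohB1.genLocus M (σ f) ↔ y ∈ (b ⁻¹ᵁ U.1 : Scheme.{u}).basicOpen c := by
        rw [← hloc]
        exact ⟨fun h => ⟨h, hg⟩, fun h => h.1⟩
      have h2 : y ∈ (b ⁻¹ᵁ U.1 : Scheme.{u}).basicOpen c ↔ j y ∈ j ''ᵁ ((b ⁻¹ᵁ U.1 : Scheme.{u}).basicOpen c) :=
        ⟨fun h => ⟨y, h, rfl⟩, fun ⟨y', h, hy⟩ => j.isOpenEmbedding.injective hy ▸ h⟩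
      rw [h1, h2, Scheme.image_basicOpen, hinv]
      show j y ∈ X'.basicOpen (X'.presheaf.map (homOfLE hTV).op φ) ↔ _
      rw [Scheme.basicOpen_res]
      exact ⟨fun h => h.2, fun h => ⟨⟨y, hg, rfl⟩, h⟩⟩
    refine hbo.trans ⟨fun h => hbas f g φ hφ.symm h, fun hf => ?_⟩
    obtain ⟨ψ, hψ⟩ := Ideal.mem_span_singleton'.mp ((hgen f).2.le (hmem f g))
    let I := (V f).1 ⊓ (V g).1
    have e1 : mres L (inf_le_right : I ≤ (V g).1) (e g) =
        fres X' (inf_le_left : I ≤ (V f).1) ψ • mres L (inf_le_left : I ≤ (V f).1) (e f) := by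
      refine val_injective E _ ?_
      rw [val_smul, val_mres, val_mres, hev, hev]
      have e' := congrArg (fres X' (inf_le_left : I ≤ (V f).1)) hψ
      rw [show fres X' (inf_le_left : I ≤ (V f).1) (ψ * _) = _ from map_mul _ _ _] at e'
      refine Eq.trans ?_ e'.symm
      exact (congr($(b.appLE_map (hVU g) (homOfLE (inf_le_right : I ≤ (V g).1)).op) (g : Γ(X, U.1)))).trans
        (congr($(b.appLE_map (hVU f) (homOfLE (inf_le_left : I ≤ (V f).1)).op) (g : Γ(X, U.1)))).symm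
    have e2 : mres L (inf_le_left : I ≤ (V f).1) (e f) =
        fres X' (inf_le_right : I ≤ (V g).1) φ • mres L (inf_le_right : I ≤ (V g).1) (e g) := by
      refine val_injective E _ ?_
      rw [val_smul, val_mres, val_mres, hev, hev]
      have e' := congrArg (fres X' (inf_le_right : I ≤ (V g).1)) hφ
      rw [show fres X' (inf_le_right : I ≤ (V g).1) (φ * _) = _ from map_mul _ _ _] at e'
      refine Eq.trans ?_ e'.symm
      exact (congr($(b.appLE_map (hVU f) (homOfLE (inf_le_left : I ≤ (V f).1)).op) (f : Γ(X, U.1)))).trans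
        (congr($(b.appLE_map (hVU g) (homOfLE (inf_le_right : I ≤ (V g).1)).op) (f : Γ(X, U.1)))).symm
    rw [e2, smul_smul] at e1
    have h1 : fres X' (inf_le_left : I ≤ (V f).1) ψ * fres X' (inf_le_right : I ≤ (V g).1) φ = 1 :=
      (he g).smul_left_injective (inf_le_right : I ≤ (V g).1) (e1.symm.trans (one_smul _ _).symm)
    have hu : IsUnit (fres X' (inf_le_right : I ≤ (V g).1) φ) := IsUnit.of_mul_eq_one_right _ h1
    have h5 : j y ∈ X'.basicOpen (fres X' (inf_le_right : I ≤ (V g).1) φ) := by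
      rw [Scheme.basicOpen_of_isUnit _ hu]; exact ⟨hf, hg⟩
    exact (show j y ∈ I ⊓ X'.basicOpen φ from (X'.basicOpen_res φ _).le h5).2
  obtain ⟨c, ⟨e₀⟩⟩ := Ample.exists_cocycle hMinv
  refine (c.isAmple_iff e₀).2 ⟨hWc, fun p => ?_⟩
  obtain ⟨f, hf⟩ := hcov (j p) (hjle ⊤ ⟨p, trivial, rfl⟩)
  obtain ⟨s, hs⟩ := c.exists_hom_eq (σ f ≫ e₀.hom)
  have hl : c.locus s = j ⁻¹ᵁ (V f).1 := by
    rw [← c.genLocus_hom, hs, Ample.genLocus_comp_iso, hlocus]
  refine ⟨0, s, ?_, ?_⟩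
  · rw [hl]; exact hf
  · rw [hl]
    exact (V f).2.preimage_of_isOpenImmersion j (by rw [Scheme.Opens.opensRange_ι]; exact hVU f)

end GrothLib.GoodBlow8
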